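import Groth.Agent.SliceLib.Ring
import Mathlib.RingTheory.AlgebraicIndependent.TranscendenceBasis

/-!
# Finite étale maps to affine space in characteristic p

An algebra étale over a polynomial ring over a field of characteristic `p` is finite étale over a
polynomial ring in the same number of variables: perturb the coordinates by suitable `p`-th powers.
-/

universe u

open TensorProduct MvPolynomial

set_option linter.style.haveILetI false
set_option maxHeartbeats 1000000

namespace Groth.Agent.CharPFin

/-- A domain quotient of an unramified algebra is algebraic over the base domain. -/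
theorem isAlgebraic_of_unramified {P C D : Type u} [CommRing P] [IsDomain P] [CommRing C] [Algebra P C]
    [Algebra.FormallyUnramified P C] [Algebra.EssFiniteType P C] [CommRing D] [IsDomain D] [Algebra P D]
    (f : C →ₐ[P] D) (hf : Function.Surjective f) (hPD : Function.Injective (algebraMap P D)) :
    Algebra.IsAlgebraic P D := by
  let L := FractionRing D
  let K := FractionRing P
  have hPL : Function.Injective (algebraMap P L) := by
    rw [IsScalarTower.algebraMap_eq P D L]
    exact (IsFractionRing.injective D L).comp hPD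
  haveI : FaithfulSMul P L := (faithfulSMul_iff_algebraMap_injective _ _).2 hPL
  letI := FractionRing.liftAlgebra P L
  haveI : Module.Finite K (K ⊗[P] C) := Algebra.FormallyUnramified.finite_of_free K (K ⊗[P] C)
  refine ⟨fun d => ?_⟩
  obtain ⟨c, rfl⟩ := hf d
  let φ : C →ₐ[P] L := (IsScalarTower.toAlgHom P D L).comp f
  let Φ : K ⊗[P] C →ₐ[K] L := Algebra.TensorProduct.lift (Algebra.ofId K L) φ fun _ _ => Commute.all _ _
  have h1 : IsAlgebraic K (Φ (1 ⊗ₜ c)) :=
    ((Algebra.IsIntegral.isIntegral (R := K) _).map Φ).isAlgebraic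
  have he : Φ (1 ⊗ₜ c) = algebraMap D L (f c) := by
    simp [Φ, φ]
  rw [he] at h1
  exact (isAlgebraic_algebraMap_iff (IsFractionRing.injective D L)).1
    ((IsFractionRing.isAlgebraic_iff P K L).2 h1)

variable (k : Type u) [Field k] {n : ℕ} (C : Type u) [CommRing C] [Algebra k C]

section Dependent

variable [Algebra (MvPolynomial (Fin n) k) C] [IsScalarTower k (MvPolynomial (Fin n) k) C]
  [Algebra.Etale (MvPolynomial (Fin n) k) C]

/-- Any `n + 1` elements of an algebra étale over `n` variables satisfy an algebraic relation. -/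
theorem exists_relation (z : Fin (n + 1) → C) :
    ∃ F : MvPolynomial (Fin (n + 1)) k, F ≠ 0 ∧ aeval z F = 0 := by
  by_contra h
  push Not at h
  let P := MvPolynomial (Fin n) k
  have hinj : Function.Injective (aeval z : MvPolynomial (Fin (n + 1)) k →ₐ[k] C) :=
    (injective_iff_map_eq_zero _).2 fun F hF => by_contra fun h0 => h F h0 hF
  obtain ⟨q, hq, hqc⟩ := Ideal.exists_minimalPrimes_comap_eq
    (aeval z : MvPolynomial (Fin (n + 1)) k →ₐ[k] C).toRingHom ⊥ (by
      rw [← RingHom.ker_eq_comap_bot]
      erw [(RingHom.injective_iff_ker_eq_bot _).1 hinj]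
      rw [show (⊥ : Ideal (MvPolynomial (Fin (n + 1)) k)).minimalPrimes = minimalPrimes _ from rfl,
        IsDomain.minimalPrimes_eq_singleton_bot]
      exact Set.mem_singleton _)
  haveI : q.IsPrime := hq.1.1
  have hq0 : q.comap (algebraMap P C) = ⊥ := by
    rw [eq_bot_iff]
    intro a ha
    by_contra h0
    have hreg : IsSMulRegular C (algebraMap P C a) :=
      IsSMulRegular.of_flat (IsRegular.of_ne_zero (by simpa using h0)).isSMulRegular
    have hnz : algebraMap P C a ∈ nonZeroDivisors C := by
      rw [mem_nonZeroDivisors_iff_right]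
      intro x hx
      refine hreg (show algebraMap P C a • x = algebraMap P C a • (0 : C) from ?_)
      rw [smul_zero, smul_eq_mul, mul_comm]
      exact hx
    exact Set.disjoint_left.1 (Ideal.disjoint_nonZeroDivisors_of_mem_minimalPrimes hq) ha hnz
  let D := C ⧸ q
  have hPD : Function.Injective (algebraMap P D) := by
    rw [injective_iff_map_eq_zero]
    intro a ha
    have h1 : algebraMap P C a ∈ q := Ideal.Quotient.eq_zero_iff_mem.1 ha
    exact (Ideal.mem_bot).1 (hq0.le h1)
  haveI : Algebra.IsAlgebraic P D :=
    isAlgebraic_of_unramified (Ideal.Quotient.mkₐ P q) Ideal.Quotient.mk_surjective hPD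
  let s : Set D := Set.range fun i : Fin n => algebraMap P D (X i)
  have hmem : ∀ a : P, algebraMap P D a ∈ Algebra.adjoin k s := by
    intro a
    have hr : IsScalarTower.toAlgHom k P D = aeval fun i : Fin n => algebraMap P D (X i) :=
      algHom_ext fun i => by simp; rfl
    show IsScalarTower.toAlgHom k P D a ∈ _
    rw [hr, Algebra.adjoin_range_eq_range_aeval]
    exact ⟨a, rfl⟩
  haveI : Algebra.IsAlgebraic (Algebra.adjoin k s) D := by
    refine ⟨fun d => ?_⟩
    obtain ⟨f, hf, hfd⟩ := Algebra.IsAlgebraic.isAlgebraic (R := P) d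
    let g : P →+* Algebra.adjoin k s := (algebraMap P D).codRestrict _ hmem
    refine ⟨f.map g, ?_, ?_⟩
    · intro h0
      refine hf (Polynomial.map_injective g (fun a b hab => hPD ?_) (by rw [h0, Polynomial.map_zero]))
      exact congrArg Subtype.val hab
    · rw [Polynomial.aeval_def, Polynomial.eval₂_map]
      exact hfd
  have hind : AlgebraicIndependent k fun i => Ideal.Quotient.mk q (z i) := by
    rw [algebraicIndependent_iff]
    intro F hF
    have hF' : Ideal.Quotient.mkₐ k q (aeval z F) = 0 := by
      rw [← AlgHom.comp_apply, comp_aeval]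
      exact hF
    have h3 : aeval z F ∈ q := Ideal.Quotient.eq_zero_iff_mem.1 hF'
    exact (Ideal.mem_bot).1 (hqc.le h3)
  have h1 := hind.lift_cardinalMk_le_trdeg.trans (Cardinal.lift_le.2 (Algebra.IsAlgebraic.trdeg_le_cardinalMk k s))
  have h2 : Cardinal.lift.{0} (Cardinal.mk s) ≤ Cardinal.lift.{u} (Cardinal.mk (Fin n)) :=
    Cardinal.mk_range_le_lift
  have h3 := h1.trans h2
  simp at h3

end Dependent

/-- Nagata's substitution: a relation makes one element integral over the twisted others. -/
theorem exists_isIntegral_twist (p : ℕ) (hp : 0 < p) (y : C) (x : Fin n → C)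
    (F : MvPolynomial (Fin (n + 1)) k) (hF0 : F ≠ 0) (hF : aeval (Fin.cases y x : Fin (n + 1) → C) F = 0) :
    ∃ m : Fin n → ℕ, IsIntegral (Algebra.adjoin k (Set.range fun i => x i + (y ^ m i) ^ p)) y := by
  classical
  let N := F.totalDegree + 1
  let m : Fin n → ℕ := fun i => N ^ ((i : ℕ) + 1)
  refine ⟨m, ?_⟩
  set R' := Algebra.adjoin k (Set.range fun i => x i + (y ^ m i) ^ p)
  rcases subsingleton_or_nontrivial C with hC | hC
  · rw [Subsingleton.elim y 1]; exact isIntegral_one
  let x' : Fin n → R' := fun i => ⟨x i + (y ^ m i) ^ p, Algebra.subset_adjoin ⟨i, rfl⟩⟩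
  let σ : Fin (n + 1) → Polynomial R' :=
    Fin.cases Polynomial.X fun i => Polynomial.C (x' i) - Polynomial.X ^ (m i * p)
  let G : Polynomial R' := aeval σ F
  have hG : Polynomial.aeval y G = 0 := by
    show ((Polynomial.aeval y : Polynomial R' →ₐ[R'] C).restrictScalars k) (aeval σ F) = 0
    rw [← AlgHom.comp_apply, comp_aeval]
    refine Eq.trans (congrArg (fun v => aeval v F) (funext fun i => ?_)) hF
    refine Fin.cases ?_ (fun j => ?_) i
    · simp [σ]
    · simp only [σ, Fin.cases_succ, AlgHom.coe_restrictScalars', map_sub, Polynomial.aeval_C,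
        map_pow, Polynomial.aeval_X]
      show x j + (y ^ m j) ^ p - y ^ (m j * p) = x j
      rw [pow_mul]; ring
  let w : (Fin (n + 1) →₀ ℕ) → ℕ := fun v => v 0 + ∑ i : Fin n, m i * p * v i.succ
  let t : (Fin (n + 1) →₀ ℕ) → Polynomial R' := fun v =>
    Polynomial.C (algebraMap k R' (coeff v F)) * ∏ i, σ i ^ v i
  have hGt : G = ∑ v ∈ F.support, t v := by
    show aeval σ F = _
    rw [aeval_def, eval₂_eq']
    rfl
  have hσdeg : ∀ i : Fin n, (σ i.succ).natDegree ≤ m i * p := fun i => by
    simp only [σ, Fin.cases_succ]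
    exact (Polynomial.natDegree_sub_le _ _).trans (by simp)
  have hσc : ∀ i : Fin n, (σ i.succ).coeff (m i * p) = -1 := fun i => by
    simp only [σ, Fin.cases_succ, Polynomial.coeff_sub, Polynomial.coeff_X_pow, if_pos rfl]
    rw [Polynomial.coeff_C_of_ne_zero (Nat.mul_pos (pow_pos (Nat.succ_pos _) _) hp).ne']
    exact zero_sub _
  have hdeg : ∀ v, (t v).natDegree ≤ w v := by
    intro v
    refine (Polynomial.natDegree_C_mul_le _ _).trans ?_
    rw [Fin.prod_univ_succ]
    refine Polynomial.natDegree_mul_le.trans (add_le_add ?_ ?_)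
    · simp [σ]
    · refine (Polynomial.natDegree_prod_le _ _).trans (Finset.sum_le_sum fun i _ => ?_)
      exact Polynomial.natDegree_pow_le.trans (by rw [mul_comm]; exact Nat.mul_le_mul_right _ (hσdeg i))
  have hcoeff : ∀ v, (t v).coeff (w v) =
      algebraMap k R' (coeff v F) * ∏ i : Fin n, (-1 : R') ^ v i.succ := by
    intro v
    simp only [t, Polynomial.coeff_C_mul]
    congr 1
    rw [Fin.prod_univ_succ, Polynomial.coeff_mul_add_eq_of_natDegree_le (df := v 0)
      (dg := ∑ i : Fin n, m i * p * v i.succ)]
    · rw [show (σ 0 ^ v 0).coeff (v 0) = 1 by simp [σ], one_mul]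
      -- the product of the leading coefficients
      have key : ∀ S : Finset (Fin n), (∏ i ∈ S, σ i.succ ^ v i.succ).natDegree ≤ ∑ i ∈ S, m i * p * v i.succ ∧
          (∏ i ∈ S, σ i.succ ^ v i.succ).coeff (∑ i ∈ S, m i * p * v i.succ) =
            ∏ i ∈ S, (-1 : R') ^ v i.succ := by
        intro S
        induction S using Finset.induction_on with
        | empty => simp
        | @insert a S ha ih =>
          have hd : (σ a.succ ^ v a.succ).natDegree ≤ m a * p * v a.succ :=
            Polynomial.natDegree_pow_le.trans (by rw [mul_comm]; exact Nat.mul_le_mul_right _ (hσdeg a))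
          rw [Finset.prod_insert ha, Finset.sum_insert ha, Finset.prod_insert ha]
          refine ⟨Polynomial.natDegree_mul_le.trans (add_le_add hd ih.1), ?_⟩
          rw [Polynomial.coeff_mul_add_eq_of_natDegree_le hd ih.1, ih.2]
          congr 1
          rw [mul_comm (m a * p), Polynomial.coeff_pow_of_natDegree_le (hσdeg a), hσc]
      exact (key Finset.univ).2
    · simp [σ]
    · refine (Polynomial.natDegree_prod_le _ _).trans (Finset.sum_le_sum fun i _ => ?_)
      exact Polynomial.natDegree_pow_le.trans (by rw [mul_comm]; exact Nat.mul_le_mul_right _ (hσdeg i))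
  have hw : Set.InjOn w ↑F.support := by
    intro v hv v' hv' h
    have hlt : ∀ v ∈ F.support, ∀ i, v i < N := fun v hv i => by
      have := (monomial_le_degreeOf i hv).trans (degreeOf_le_totalDegree F i)
      omega
    have hsum : ∀ v : Fin (n + 1) →₀ ℕ, w v = v 0 + N * (p * ∑ i : Fin n, v i.succ * N ^ (i : ℕ)) := by
      intro v
      simp only [w, m, Finset.mul_sum]
      congr 1
      exact Finset.sum_congr rfl fun i _ => by rw [pow_succ]; ring
    rw [hsum, hsum] at h
    have h0 : v 0 = v' 0 := by
      have := congrArg (· % N) h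
      simp only [Nat.add_mul_mod_self_left] at this
      rwa [Nat.mod_eq_of_lt (hlt v hv 0), Nat.mod_eq_of_lt (hlt v' hv' 0)] at this
    rw [h0] at h
    have h' : ∑ i : Fin n, v i.succ * N ^ (i : ℕ) = ∑ i : Fin n, v' i.succ * N ^ (i : ℕ) :=
      Nat.eq_of_mul_eq_mul_left hp (Nat.eq_of_mul_eq_mul_left (Nat.succ_pos _) (Nat.add_left_cancel h))
    have hf : finFunctionFinEquiv (fun i : Fin n => (⟨v i.succ, hlt v hv _⟩ : Fin N)) =
        finFunctionFinEquiv (fun i : Fin n => (⟨v' i.succ, hlt v' hv' _⟩ : Fin N)) := by
      apply Fin.ext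
      simpa [finFunctionFinEquiv_apply_val] using h'
    refine Finsupp.ext fun i => ?_
    refine Fin.cases h0 (fun j => ?_) i
    exact congrArg Fin.val (congrFun (finFunctionFinEquiv.injective hf) j)
  obtain ⟨v₀, hv₀, hmax⟩ := Finset.exists_max_image F.support w (support_nonempty.mpr hF0)
  have hlead : G.coeff (w v₀) = algebraMap k R' (coeff v₀ F) * ∏ i : Fin n, (-1 : R') ^ v₀ i.succ := by
    rw [hGt, Polynomial.finsetSum_coeff, Finset.sum_eq_single v₀, hcoeff]
    · intro v hv hne
      refine Polynomial.coeff_eq_zero_of_natDegree_lt (lt_of_le_of_lt (hdeg v) ?_)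
      exact lt_of_le_of_ne (hmax v hv) fun he => hne (hw hv hv₀ he)
    · exact fun h => absurd hv₀ h
  have hunit : IsUnit (G.coeff (w v₀)) := by
    rw [hlead]
    refine ((IsUnit.mk0 _ (mem_support_iff.1 hv₀)).map _).mul ?_
    rw [IsUnit.prod_iff]
    exact fun i _ => (isUnit_one.neg).pow _
  have hGdeg : G.natDegree = w v₀ := by
    refine le_antisymm ?_ (Polynomial.le_natDegree_of_ne_zero hunit.ne_zero)
    rw [hGt]
    exact Polynomial.natDegree_sum_le_of_forall_le _ _ fun v hv => (hdeg v).trans (hmax v hv)
  obtain ⟨u, hu⟩ : IsUnit G.leadingCoeff := by rw [Polynomial.leadingCoeff, hGdeg]; exact hunit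
  refine ⟨Polynomial.C (↑u⁻¹ : R') * G, Polynomial.monic_C_mul_of_mul_leadingCoeff_eq_one
    (by rw [← hu, Units.inv_mul]), ?_⟩
  rw [← Polynomial.aeval_def, map_mul, hG, mul_zero]

variable [Algebra (MvPolynomial (Fin n) k) C] [IsScalarTower k (MvPolynomial (Fin n) k) C]
  [Algebra.Etale (MvPolynomial (Fin n) k) C]

/-- Perturbing by `p`-th powers makes the coordinates a Noether normalization. -/
theorem exists_isIntegral_twist_all (p : ℕ) [Fact p.Prime] [CharP k p] (S : Finset C) :
    ∀ x : Fin n → C, Algebra.IsIntegral (Algebra.adjoin k (Set.range x ∪ ↑S)) C →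
      ∃ h : Fin n → C, Algebra.IsIntegral (Algebra.adjoin k (Set.range fun i => x i + h i ^ p)) C := by
  classical
  induction S using Finset.induction_on with
  | empty =>
    intro x hx
    refine ⟨0, ?_⟩
    have : (Set.range fun i => x i + (0 : Fin n → C) i ^ p) = Set.range x := by
      simp [(Fact.out : p.Prime).ne_zero]
    rw [this]
    rwa [Finset.coe_empty, Set.union_empty] at hx
  | @insert y S hy ih =>
    intro x hx
    rcases subsingleton_or_nontrivial C with hC | hC
    · exact ⟨0, ⟨fun c => by rw [Subsingleton.elim c 1]; exact isIntegral_one⟩⟩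
    haveI : CharP C p := charP_of_injective_algebraMap (algebraMap k C).injective p
    obtain ⟨F, hF0, hF⟩ := exists_relation (n := n) k C (Fin.cases y x : Fin (n + 1) → C)
    obtain ⟨m, hm⟩ := exists_isIntegral_twist k C p (Fact.out : p.Prime).pos y x F hF0 hF
    let x' : Fin n → C := fun i => x i + (y ^ m i) ^ p
    let R' := Algebra.adjoin k (Set.range x' ∪ ↑S)
    have hy' : IsIntegral R' y := by
      have hle : Algebra.adjoin k (Set.range x') ≤ R' := Algebra.adjoin_mono Set.subset_union_left
      letI := (Subalgebra.inclusion hle).toRingHom.toAlgebra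
      haveI : IsScalarTower (Algebra.adjoin k (Set.range x')) R' C := IsScalarTower.of_algebraMap_eq' rfl
      exact IsIntegral.tower_top hm
    have hsub : ∀ c ∈ Algebra.adjoin k (Set.range x ∪ ↑(insert y S)), IsIntegral R' c := by
      intro c hc
      induction hc using Algebra.adjoin_induction with
      | mem c hc =>
        rcases hc with ⟨i, rfl⟩ | hc
        · have h1 : IsIntegral R' (x' i) :=
            isIntegral_algebraMap (A := C) (x := (⟨x' i, Algebra.subset_adjoin (Or.inl ⟨i, rfl⟩)⟩ : R'))
          have h2 : x i = x' i - (y ^ m i) ^ p := by simp [x']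
          rw [h2]
          exact h1.sub ((hy'.pow _).pow _)
        · rw [Finset.coe_insert] at hc
          rcases hc with rfl | hc
          · exact hy'
          · exact isIntegral_algebraMap (A := C) (x := (⟨c, Algebra.subset_adjoin (Or.inr hc)⟩ : R'))
      | algebraMap r => exact isIntegral_algebraMap (A := C) (x := (algebraMap k R' r))
      | add a b _ _ ha hb => exact ha.add hb
      | mul a b _ _ ha hb => exact ha.mul hb
    have hint : Algebra.IsIntegral R' C := by
      refine ⟨fun c => ?_⟩
      let R := Algebra.adjoin k (Set.range x ∪ ↑(insert y S))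
      let I := integralClosure R' C
      have hle : R.toSubsemiring ≤ I.toSubsemiring := fun a ha => hsub a ha
      letI : Algebra R I := RingHom.toAlgebra
        { toFun := fun a => ⟨a.1, hle a.2⟩, map_one' := rfl, map_mul' := fun _ _ => rfl,
          map_zero' := rfl, map_add' := fun _ _ => rfl }
      haveI : IsScalarTower R I C := IsScalarTower.of_algebraMap_eq fun _ => rfl
      haveI : IsIntegralClosure I R' C := inferInstance
      exact isIntegral_trans (A := I) c (IsIntegral.tower_top (hx.isIntegral c))
    obtain ⟨h, hh⟩ := ih x' hint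
    refine ⟨fun i => y ^ m i + h i, ?_⟩
    have : (Set.range fun i => x i + (y ^ m i + h i) ^ p) = Set.range fun i => x' i + h i ^ p := by
      refine congrArg Set.range (funext fun i => ?_)
      rw [add_pow_char]
      simp [x', add_assoc]
    rw [this]
    exact hh

/-- Perturbing étale coordinates by `p`-th powers keeps them étale. -/
theorem etale_perturb (p : ℕ) [Fact p.Prime] [CharP k p] (h : Fin n → C) :
    (aeval (R := k) fun i => algebraMap (MvPolynomial (Fin n) k) C (X i) + h i ^ p).toRingHom.Etale := by
  haveI : Algebra.Smooth k (MvPolynomial (Fin n) k) := ⟨inferInstance, inferInstance⟩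
  haveI : Algebra.Smooth k C := Algebra.Smooth.comp k (MvPolynomial (Fin n) k) C
  have hp0 : (p : C) = 0 := by
    rw [← map_natCast (algebraMap k C), CharP.cast_eq_zero, map_zero]
  let β : Module.Basis (Fin n) C (Ω[C⁄k]) :=
    ((KaehlerDifferential.mvPolynomialBasis k (Fin n)).baseChange C).map
      (KaehlerDifferential.tensorKaehlerEquivOfFormallyEtale k (MvPolynomial (Fin n) k) C)
  refine SliceLib.etale_aeval_of_basis _ β fun i => ?_
  have hb : KaehlerDifferential.mvPolynomialBasis k (Fin n) i =
      KaehlerDifferential.D k (MvPolynomial (Fin n) k) (X i) :=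
    (KaehlerDifferential.mvPolynomialBasis k (Fin n)).repr.injective (by
      rw [Module.Basis.repr_self, KaehlerDifferential.mvPolynomialBasis_repr_D_X])
  have h0 : KaehlerDifferential.D k C (h i ^ p) = 0 := by
    rw [Derivation.leibniz_pow, ← Nat.cast_smul_eq_nsmul C, hp0, zero_smul]
  rw [map_add, h0, add_zero, Module.Basis.map_apply, Module.Basis.baseChange_apply, hb,
    KaehlerDifferential.tensorKaehlerEquivOfFormallyEtale_apply, KaehlerDifferential.mapBaseChange_tmul,
    one_smul, KaehlerDifferential.map_D]

omit [Algebra (MvPolynomial (Fin n) k) C] [IsScalarTower k (MvPolynomial (Fin n) k) C]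
  [Algebra.Etale (MvPolynomial (Fin n) k) C] in
/-- Integrality over the coordinates gives a finite map. -/
theorem finite_aeval [Algebra.FiniteType k C] (b : Fin n → C)
    (hh : Algebra.IsIntegral (Algebra.adjoin k (Set.range b)) C) :
    (aeval (R := k) b).toRingHom.Finite := by
  let φ : MvPolynomial (Fin n) k →ₐ[k] C := aeval b
  have hr : ∀ q, φ.toRingHom q ∈ Algebra.adjoin k (Set.range b) := fun q => by
    rw [Algebra.adjoin_range_eq_range_aeval]; exact ⟨q, rfl⟩
  let g₀ : MvPolynomial (Fin n) k →+* Algebra.adjoin k (Set.range b) := φ.toRingHom.codRestrict _ hr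
  have hg₀ : Function.Surjective g₀ := fun a => by
    have h : (a : C) ∈ φ.range := (Algebra.adjoin_range_eq_range_aeval k b).le a.2
    obtain ⟨q, hq⟩ := h
    exact ⟨q, Subtype.ext hq⟩
  refine RingHom.IsIntegral.to_finite ?_ ?_
  · intro c
    rcases subsingleton_or_nontrivial C with hC | hC
    · rw [Subsingleton.elim c 1]; exact RingHom.isIntegralElem_one _
    obtain ⟨f, hf, hfc⟩ := hh.isIntegral c
    obtain ⟨f', hf'1, -, hf'2⟩ := Polynomial.lifts_and_degree_eq_and_monic
      ((Polynomial.lifts_iff_coeffs_subset_range (f := g₀) f).2 fun a _ => hg₀ a) hf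
    refine ⟨f', hf'2, ?_⟩
    rw [← hf'1, Polynomial.eval₂_map] at hfc
    exact hfc
  · refine RingHom.FiniteType.of_comp_finiteType (f := algebraMap k (MvPolynomial (Fin n) k)) ?_
    have hc : φ.toRingHom.comp (algebraMap k (MvPolynomial (Fin n) k)) = algebraMap k C := φ.comp_algebraMap
    rw [hc]
    exact RingHom.finiteType_algebraMap.2 inferInstance

/-- The theorem. -/
theorem exists_finite_etale (p : ℕ) [Fact p.Prime] [CharP k p] :
    ∃ φ : MvPolynomial (Fin n) k →ₐ[k] C, φ.toRingHom.Finite ∧ φ.toRingHom.Etale := by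
  classical
  haveI : Algebra.FiniteType k C :=
    Algebra.FiniteType.trans (R := k) (S := MvPolynomial (Fin n) k) inferInstance inferInstance
  obtain ⟨S, hS⟩ := (inferInstance : Algebra.FiniteType k C).out
  let x : Fin n → C := fun i => algebraMap (MvPolynomial (Fin n) k) C (X i)
  have hint : Algebra.IsIntegral (Algebra.adjoin k (Set.range x ∪ ↑S)) C := ⟨fun c => by
    have hc : c ∈ Algebra.adjoin k (Set.range x ∪ ↑S) :=
      Algebra.adjoin_mono Set.subset_union_right (hS.ge Algebra.mem_top)
    exact isIntegral_algebraMap (A := C) (x := (⟨c, hc⟩ : Algebra.adjoin k (Set.range x ∪ ↑S)))⟩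
  obtain ⟨h, hh⟩ := exists_isIntegral_twist_all k C p S x hint
  exact ⟨aeval fun i => x i + h i ^ p, finite_aeval k C _ hh, etale_perturb k C p h⟩

end Groth.Agent.CharPFin
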